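import Cfsg.Agent.Lib.PLocal.Complements

/-
Normal p-complements from the normalizer of `Z(J(D))`, `D` strongly closed, `p` odd.
Main results: `closed_final`, `closed_complement`.
-/

set_option autoImplicit false

namespace Cfsg.Agent.ClosedZJ

open Subgroup Cfsg.Agent.PLocal
open scoped commutatorElement

universe u

variable {p : ℕ} [Fact p.Prime]

theorem zj_le {X : Type u} [Group X] (D : Subgroup X) : Cfsg.centerThompsonAOf D ≤ D :=
  inf_le_left.trans (thompsonSubgroupAOf_le D)

theorem normalizer_le_zj {X : Type u} [Group X] (D : Subgroup X) :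
    normalizer (D : Set X) ≤ normalizer (Cfsg.centerThompsonAOf D : Set X) := fun g hg => by
  rw [mem_normalizer_iff_map_eq, map_centerThompsonAOf _ (MulAut.conj g).injective.injOn,
    mem_normalizer_iff_map_eq.1 hg]

theorem normal_of_sylow_strongly_closed {G : Type u} [Group G] {S D : Subgroup G}
    (hD : Cfsg.IsStronglyClosed D S) : S ≤ normalizer (D : Set G) := by
  refine le_normalizer_iff.2 fun g hg x hx => ?_
  exact hD.2 x hx g (S.mul_mem (S.mul_mem hg (hD.1 hx)) (S.inv_mem hg))

theorem pResidual_idem {X : Type*} [Group X] :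
    Cfsg.pResidual p ↥(Cfsg.pResidual p X) = ⊤ := by
  unfold Cfsg.pResidual
  rw [eq_top_iff]
  refine le_of_eq_of_le (closure_closure_coe_preimage
    (k := {g : X | (orderOf g).Coprime p})).symm ((closure_le _).2 fun z hz => subset_closure ?_)
  show (orderOf z).Coprime p
  rw [← orderOf_submonoid z]
  exact hz

/-- The reduced case. -/
theorem closed_final {G : Type u} [Group G] [Finite G] (hp : p ≠ 2) (S : Sylow p G)
    (hr : Reduced p (S : Subgroup G)) {D : Subgroup G} (hD : Cfsg.IsStronglyClosed D (S : Subgroup G))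
    (hN : Cfsg.HasNormalPComplement p ↥(normalizer (Cfsg.centerThompsonAOf D : Set G))) : False := by
  set H := Cfsg.pCore p G
  haveI : H.Normal := Cores.pCore_normal p G
  have hHp : IsPGroup p H := Cores.isPGroup_pCore p G
  have hHS : H ≤ (S : Subgroup G) := Cores.pCore_le_sylow S
  have hSD := normal_of_sylow_strongly_closed hD
  have hDp : IsPGroup p D := S.2.to_le hD.1
  by_cases hDH : D ≤ H
  · have hDn : D.Normal := ⟨fun x hx g => hD.2 x hx g
      (hHS ((inferInstance : H.Normal).conj_mem x (hDH hx) g))⟩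
    refine hr.not_complement (hnpc_of_top (hnpc_of_le ?_ hN))
    rw [← normalizer_eq_top_iff.2 hDn]
    exact normalizer_le_zj D
  set D0 := D ⊓ H with hD0def
  haveI hD0 : D0.Normal := ⟨fun x hx g =>
    have h := (inferInstance : H.Normal).conj_mem x hx.2 g
    ⟨hD.2 x hx.1 g (hHS h), h⟩⟩
  set f := QuotientGroup.mk' D0
  haveI hHf : (H.map f).Normal := (inferInstance : H.Normal).map f (QuotientGroup.mk'_surjective D0)
  set Kg := (centralizer ((H.map f : Subgroup (G ⧸ D0)) : Set (G ⧸ D0))).comap f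
  haveI : Kg.Normal := Normal.comap normal_centralizer f
  have hKg : ∀ g : G, g ∈ Kg ↔ ∀ h ∈ H, ⁅g, h⁆ ∈ D0 := by
    intro g
    constructor
    · intro hg h hh
      have h2 : f ⁅g, h⁆ = 1 := by
        rw [map_commutatorElement, commutatorElement_eq_one_iff_mul_comm]
        exact (mem_centralizer_iff.1 hg (f h) ⟨h, hh, rfl⟩).symm
      exact (QuotientGroup.eq_one_iff _).1 h2
    · intro hg
      refine mem_centralizer_iff.2 ?_
      rintro _ ⟨h, hh, rfl⟩
      refine (commutatorElement_eq_one_iff_mul_comm.1 ?_).symm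
      rw [← map_commutatorElement]
      exact (QuotientGroup.eq_one_iff _).2 (hg h hh)
  have hDKg : D ≤ Kg := fun d hd => (hKg d).2 fun h hh => by
    refine ⟨?_, ?_⟩
    · rw [commutatorElement_def, show d * h * d⁻¹ * h⁻¹ = d * (h * d⁻¹ * h⁻¹) by group]
      exact D.mul_mem hd (conj_mem (hSD (hHS hh)) (D.inv_mem hd))
    · rw [commutatorElement_def]
      exact H.mul_mem ((inferInstance : H.Normal).conj_mem h hh d) (H.inv_mem hh)
  set O := Cfsg.pResidual p G with hOdef
  haveI : O.Normal := Transfer.pResidual_normal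
  have hOKg : O ≤ Kg := by
    have hnp : ¬ IsPGroup p ↥(H ⊔ Kg) := fun h => hDH ((hDKg.trans le_sup_right).trans
      (Cores.le_pCore (inferInstance : (H ⊔ Kg).Normal) h))
    have hle := (hr.pResidual_minimal (H ⊔ Kg) inferInstance le_sup_left).resolve_left hnp
    refine (closure_le _).2 fun x (hx : (orderOf x).Coprime p) => ?_
    obtain ⟨h, hh, k, hk, rfl⟩ := mem_sup_of_normal_left.1 (hle (Transfer.mem_pResidual_of_coprime hx))
    obtain ⟨j, hj⟩ := hHp ⟨h, hh⟩
    set q := QuotientGroup.mk' Kg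
    have h1 : q (h * k) = q h := by
      rw [map_mul, show q k = 1 from (QuotientGroup.eq_one_iff k).2 hk, mul_one]
    have h2 : orderOf (q h) ∣ p ^ j := orderOf_dvd_of_pow_eq_one (by
      rw [← map_pow, show h ^ p ^ j = 1 from congrArg Subtype.val hj, map_one])
    have h3 : orderOf (q h) ∣ orderOf (h * k) := h1 ▸ orderOf_map_dvd q (h * k)
    exact (QuotientGroup.eq_one_iff _).1 (h1.trans (orderOf_eq_one_iff.1
      (Nat.eq_one_of_dvd_coprimes (hx.pow_right j) h3 h2)))
  -- the Sylow subgroup of `O^p(G)` lies in `D₀`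
  have hOS : O ⊓ (S : Subgroup G) ≤ D0 := by
    obtain ⟨H', R, hH', hR, hH'p, -, hR2, hR3⟩ := hr.shape
    have hORH : O ⊓ (S : Subgroup G) ≤ H := by
      intro x hx
      have hxR : x ∈ R := by
        haveI : IsPGroup p (G ⧸ R) := fun q => by
          obtain ⟨g, rfl⟩ := QuotientGroup.mk_surjective q
          obtain ⟨k, hk⟩ := hR3 g
          exact ⟨k, (QuotientGroup.eq_one_iff (g ^ p ^ k)).2 hk⟩
        exact Transfer.pResidual_le this hx.1
      obtain ⟨n, hn, hxn⟩ := hR2 x hxR
      obtain ⟨k, hk⟩ := S.2 ⟨x, hx.2⟩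
      refine Cores.le_pCore hH' hH'p ?_
      obtain ⟨j, hj⟩ := exists_pow_eq_self_of_coprime (n := n) (x := x)
        (Nat.Coprime.coprime_dvd_right (orderOf_dvd_of_pow_eq_one
          (show x ^ p ^ k = 1 from congrArg Subtype.val hk)) (hn.pow_right k))
      rw [← hj]
      exact H'.pow_mem hxn j
    set O' := Cfsg.pResidual p (G ⧸ D0)
    haveI : O'.Normal := Transfer.pResidual_normal
    have hO'O : O' ≤ O.map f := by
      refine (closure_le _).2 fun y (hy : (orderOf y).Coprime p) => ?_
      obtain ⟨x, rfl⟩ := QuotientGroup.mk'_surjective D0 y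
      obtain ⟨j, hj⟩ := exists_pow_eq_self_of_coprime (n := p ^ (orderOf x).factorization p)
        (x := f x) ((hy.pow_right _).symm)
      rw [← hj, ← map_pow, ← map_pow]
      exact ⟨_, O.pow_mem (Transfer.mem_pResidual_of_coprime (p := p)
        (g := x ^ p ^ (orderOf x).factorization p) (by
          rw [orderOf_pow, Nat.gcd_eq_right (Nat.ordProj_dvd _ p)]
          exact (((Fact.out : p.Prime).coprime_iff_not_dvd).2
            (Nat.not_dvd_ordCompl Fact.out (orderOf_pos x).ne')).symm)) j, rfl⟩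
    let T : Sylow p (G ⧸ D0) := S.mapSurjective (QuotientGroup.mk'_surjective D0)
    have hTO : O' ⊓ (T : Subgroup (G ⧸ D0)) ≤ H.map f := by
      rintro y ⟨hyO, hyT⟩
      obtain ⟨o, ho, rfl⟩ := hO'O hyO
      rw [SetLike.mem_coe, Sylow.coe_mapSurjective] at hyT
      obtain ⟨s, hs, hse⟩ := hyT
      have hos : s⁻¹ * o ∈ D0 := (QuotientGroup.eq_one_iff _).1 (by
        rw [QuotientGroup.mk_mul, QuotientGroup.mk_inv]
        exact inv_mul_eq_one.2 hse)
      have hoS : o ∈ (S : Subgroup G) := by
        have h := (S : Subgroup G).mul_mem hs (hD.1 hos.1)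
        rwa [mul_inv_cancel_left] at h
      exact ⟨o, hORH ⟨ho, hoS⟩, rfl⟩
    let P : Sylow p O' := (T.2.comap_subtype (K := O')).toSylow fun hd =>
      T.not_dvd_index (hd.trans (Cores.relIndex_dvd_index_of_normal_right _ O'))
    have hcen : ∀ z ∈ (P : Subgroup O'), ∀ o : O', o * z = z * o := by
      intro z hz o
      refine Subtype.ext ?_
      obtain ⟨o', ho', e⟩ := hO'O o.2
      have h1 : f o' ∈ centralizer ((H.map f : Subgroup (G ⧸ D0)) : Set (G ⧸ D0)) := hOKg ho'
      show (o : G ⧸ D0) * z = z * o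
      rw [← e]
      exact (mem_centralizer_iff.1 h1 _ (hTO ⟨z.2, hz⟩)).symm
    have hNO : Cfsg.HasNormalPComplement p O' :=
      Transfer.hasNormalPComplement_of_local P fun X hX _ n _ _ =>
        mem_centralizer_iff.2 fun z hz => (hcen z (hX.1 hz) n).symm
    have hres : Cfsg.pResidual p O' = ⊤ := by
      exact pResidual_idem
    have hcop := Transfer.hasNormalPComplement_iff_coprime.1 hNO
    rw [hres, card_top] at hcop
    intro x hx
    have h1 : f x ∈ O' ⊓ (T : Subgroup (G ⧸ D0)) := ⟨Transfer.map_pResidual_le f ⟨x, hx.1, rfl⟩, by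
      rw [SetLike.mem_coe, Sylow.coe_mapSurjective]; exact ⟨x, hx.2, rfl⟩⟩
    obtain ⟨k, hk⟩ := T.2 ⟨f x, h1.2⟩
    have h2 : orderOf (f x) ∣ Nat.card O' := by
      rw [← orderOf_mk _ h1.1]; exact orderOf_dvd_natCard _
    exact (QuotientGroup.eq_one_iff x).1 (orderOf_eq_one_iff.1 (Nat.eq_one_of_dvd_coprimes
      (hcop.pow_right k) h2 (orderOf_dvd_of_pow_eq_one (congrArg Subtype.val hk))))
  set L := O ⊔ D
  haveI hLn : L.Normal := by
    refine normalizer_eq_top_iff.1 (top_le_iff.1 ?_)
    rw [← Transfer.sylow_sup_eq_top S]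
    refine sup_le (fun s hs => ?_) (le_sup_left.trans le_normalizer)
    rw [mem_normalizer_iff_map_eq, Subgroup.map_sup,
      mem_normalizer_iff_map_eq.1 (hSD hs),
      mem_normalizer_iff_map_eq.1 (show s ∈ normalizer (O : Set G) from
        (normalizer_eq_top_iff.2 (inferInstance : O.Normal)).ge (mem_top s))]
  let P : Sylow p L := (S.2.comap_subtype (K := L)).toSylow fun hd =>
    S.not_dvd_index (hd.trans (Cores.relIndex_dvd_index_of_normal_right _ L))
  have hP : (P : Subgroup L).map L.subtype = D := by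
    refine (subgroupOf_map_subtype _ _).trans (le_antisymm (fun x hx => ?_) (le_inf hD.1 le_sup_right))
    obtain ⟨o, ho, d, hd, rfl⟩ := mem_sup_of_normal_left.1 hx.2
    refine D.mul_mem (hOS ⟨ho, ?_⟩).1 hd
    have h := (S : Subgroup G).mul_mem hx.1 ((S : Subgroup G).inv_mem (hD.1 hd))
    rwa [mul_inv_cancel_right] at h
  have hCD : centralizer (D0 : Set G) ≤ H := by
    haveI : (centralizer (D0 : Set G)).Normal := normal_centralizer
    refine Cores.le_pCore inferInstance fun ⟨c, hc⟩ => ?_
    set k := (orderOf c).factorization p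
    refine ⟨k, Subtype.ext ?_⟩
    show c ^ p ^ k = 1
    set x := c ^ p ^ k
    have hco : (orderOf x).Coprime p := by
      rw [orderOf_pow, Nat.gcd_eq_right (Nat.ordProj_dvd _ p)]
      exact (((Fact.out : p.Prime).coprime_iff_not_dvd).2
        (Nat.not_dvd_ordCompl Fact.out (orderOf_pos c).ne')).symm
    have hxC : x ∈ centralizer (D0 : Set G) := pow_mem hc _
    have hxK : x ∈ Kg := hOKg (Transfer.mem_pResidual_of_coprime hco)
    have hxH : x ∈ centralizer (H : Set G) := by
      refine mem_centralizer_iff.2 fun h hh => ?_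
      have hw : ⁅x, h⁆ ∈ D0 := (hKg x).1 hxK h hh
      have hxw : x * ⁅x, h⁆ = ⁅x, h⁆ * x := (mem_centralizer_iff.1 hxC _ hw).symm
      have h1 := PLocal.conj_pow_eq (v := h) (a := x) (w := ⁅x, h⁆) rfl hxw (orderOf x)
      rw [pow_orderOf_eq_one, one_mul, inv_one, mul_one, right_eq_mul] at h1
      obtain ⟨j, hj⟩ := hHp ⟨_, hw.2⟩
      have h2 := pow_gcd_eq_one.2 ⟨h1, (congrArg Subtype.val hj : ⁅x, h⁆ ^ p ^ j = 1)⟩
      rw [Nat.coprime_iff_gcd_eq_one.1 (hco.pow_right j), pow_one] at h2
      exact (commutatorElement_eq_one_iff_mul_comm.1 h2).symm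
    obtain ⟨j, hj⟩ := hHp ⟨x, hr.centralizer_le hxH⟩
    have h2 := pow_gcd_eq_one.2 ⟨pow_orderOf_eq_one x, (congrArg Subtype.val hj : x ^ p ^ j = 1)⟩
    rwa [Nat.coprime_iff_gcd_eq_one.1 (hco.pow_right j), pow_one] at h2
  have hc : centralizer (Cfsg.pCore p L : Set L) ≤ Cfsg.pCore p L := by
    have hle : D0.subgroupOf L ≤ Cfsg.pCore p L :=
      Cores.le_pCore inferInstance ((hHp.to_le inf_le_right).comap_subtype)
    refine le_trans (fun g hg => ?_) (Cores.le_pCore (inferInstance : (H.subgroupOf L).Normal)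
      hHp.comap_subtype)
    refine hCD (mem_centralizer_iff.2 fun d hd => ?_)
    exact congrArg Subtype.val (mem_centralizer_iff.1 hg ⟨d, le_sup_right (a := O) hd.1⟩ (hle hd))
  have hzj := zj_normal hp goodClass_abelian hc
    (fun Q _ hQ => (hr.shape.subgroup L).pStableOn hp Q hQ) P
  have e : sInf (maxIn abelian (P : Subgroup L)) = Cfsg.centerThompsonAOf (P : Subgroup L) := by
    rw [Cfsg.centerThompsonAOf, thompsonSubgroupAOf_eq, ← sInf_maxIn_abelian]
  rw [e] at hzj
  have hLN : L ≤ normalizer (Cfsg.centerThompsonAOf D : Set G) := by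
    rw [← hP, ← map_centerThompsonAOf _ L.subtype_injective.injOn]
    refine le_trans ?_ (le_normalizer_map L.subtype)
    intro x hx
    refine ⟨⟨x, hx⟩, ?_, rfl⟩
    rw [normalizer_eq_top_iff.2 hzj]; exact mem_top _
  refine hr.not_complement (hnpc_of_top (hnpc_of_le ?_ hN))
  rw [← Transfer.sylow_sup_eq_top S]
  exact sup_le (hSD.trans (normalizer_le_zj D)) (le_sup_left.trans hLN)

/-- The hypothesis. -/
def Hyp (p : ℕ) (G : Type u) [Group G] (S : Subgroup G) : Prop :=
  ∃ D : Subgroup G, Cfsg.IsStronglyClosed D S ∧ D ≠ ⊥ ∧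
    Cfsg.HasNormalPComplement p ↥(normalizer (Cfsg.centerThompsonAOf D : Set G))

/-- A group has a normal `p`-complement if `N(Z(J(D)))` has, `D` strongly closed. -/
theorem closed_complement {G : Type u} [Group G] [Finite G] (hp : p ≠ 2) (S : Sylow p G)
    {D : Subgroup G} (hD : Cfsg.IsStronglyClosed D (S : Subgroup G))
    (h : Cfsg.HasNormalPComplement p ↥(normalizer (Cfsg.centerThompsonAOf D : Set G))) :
    Cfsg.HasNormalPComplement p G := by
  by_cases hb : D = ⊥
  · refine hnpc_of_top (hnpc_of_le ?_ h)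
    rw [hb, ← normalizer_eq_top_iff.2 (inferInstance : (⊥ : Subgroup G).Normal)]
    exact normalizer_le_zj ⊥
  have sc : Scheme.{u} p fun G _ S => Hyp p G S := by
    refine ⟨?_, ?_, ?_, ?_⟩
    · intro G _ _ R hR hloc
      refine ⟨R, ⟨le_rfl, fun _ _ _ hx => hx⟩, hR, ?_⟩
      obtain ⟨hc, hmap⟩ := char_of_functorial.{u} (fun {X} [Group X] K => Cfsg.centerThompsonAOf K)
        (fun f K hf => map_centerThompsonAOf f hf) (R : Subgroup G)
      rw [← hmap]
      obtain ⟨z, hz, hz1, -⟩ := exists_central_of_order_p R.2 hR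
      refine hloc _ hc fun e => hz1 ?_
      have hzJ : z ∈ Cfsg.centerThompsonAOf (R : Subgroup G) := central_le_centerThompsonAOf hz
      rw [← hmap, e, Subgroup.map_bot] at hzJ
      exact mem_bot.1 hzJ
    · rintro G _ _ S M hSM ⟨D, hD, hne, h⟩
      have hDM : D ≤ M := hD.1.trans hSM
      have hmap : (Cfsg.centerThompsonAOf (D.subgroupOf M)).map M.subtype
          = Cfsg.centerThompsonAOf D := by
        rw [map_centerThompsonAOf _ M.subtype_injective.injOn, map_subgroupOf_eq_of_le hDM]
      refine ⟨D.subgroupOf M, ⟨comap_mono hD.1, fun x hx g hg => hD.2 x hx g hg⟩,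
        fun e => hne ?_, ?_⟩
      · rw [← map_subgroupOf_eq_of_le hDM, e, Subgroup.map_bot]
      refine Transfer.hasNormalPComplement_of_injective h ((M.subtype.comp
        (normalizer (Cfsg.centerThompsonAOf (D.subgroupOf M) : Set M)).subtype).codRestrict _
          fun x => ?_) fun a b hab => ?_
      · rw [← hmap]; exact le_normalizer_map M.subtype ⟨x, x.2, rfl⟩
      · refine Subtype.ext (Subtype.ext ?_)
        have := congrArg Subtype.val hab
        exact this
    · rintro G G' _ _ _ f hf hker S ⟨D, hD, hne, h⟩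
      haveI : Finite G' := Finite.of_surjective f hf
      have hinj := injOn_of_pGroup f hker S.2
      have hinjD : Set.InjOn f D := hinj.mono hD.1
      refine ⟨D.map f, ⟨map_mono hD.1, ?_⟩, fun e => hne ?_, ?_⟩
      · rintro _ ⟨x, hx, rfl⟩ g' hg'
        obtain ⟨g, rfl⟩ := hf g'
        set T := ((S : Subgroup G).map f).comap f
        have hyT : g * x * g⁻¹ ∈ T := by
          show f (g * x * g⁻¹) ∈ (S : Subgroup G).map f
          rw [map_mul, map_mul, map_inv]
          exact hg'
        have hST : (S : Subgroup G) ≤ T := le_comap_map f _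
        let ST : Sylow p T := S.subtype hST
        have hzp : IsPGroup p (zpowers (⟨g * x * g⁻¹, hyT⟩ : T)) := by
          obtain ⟨k, hk⟩ := S.2 ⟨x, hD.1 hx⟩
          have hd : orderOf (⟨g * x * g⁻¹, hyT⟩ : T) ∣ p ^ k := orderOf_dvd_of_pow_eq_one (Subtype.ext (by
            rw [SubgroupClass.coe_pow, OneMemClass.coe_one, conj_pow,
              show x ^ p ^ k = 1 from congrArg Subtype.val hk]
            group))
          obtain ⟨i, -, hi⟩ := (Nat.dvd_prime_pow Fact.out).1 hd
          exact IsPGroup.of_card (n := i) (by rw [Nat.card_zpowers, hi])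
        obtain ⟨U, hU⟩ := hzp.exists_le_sylow
        obtain ⟨t, ht⟩ := MulAction.exists_smul_eq T U ST
        have hty : (t : G) * (g * x * g⁻¹) * (t : G)⁻¹ ∈ (S : Subgroup G) := by
          have h1 : (MulAut.conj t) ⟨g * x * g⁻¹, hyT⟩ ∈ (ST : Subgroup T) := by
            rw [← ht, Sylow.coe_subgroup_smul]
            exact ⟨_, hU (mem_zpowers _), rfl⟩
          exact h1
        obtain ⟨s, hs, hst⟩ : f (t : G) ∈ (S : Subgroup G).map f := t.2
        set k := s⁻¹ * (t : G)
        have hk : f k = 1 := by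
          rw [map_mul, map_inv, hst, inv_mul_cancel]
        have hky : k * (g * x * g⁻¹) * k⁻¹ ∈ (S : Subgroup G) := by
          have h1 := (S : Subgroup G).mul_mem ((S : Subgroup G).mul_mem ((S : Subgroup G).inv_mem hs) hty) hs
          have e : k * (g * x * g⁻¹) * k⁻¹ = s⁻¹ * ((t : G) * (g * x * g⁻¹) * (t : G)⁻¹) * s := by
            simp only [k]; group
          rw [e]; exact h1
        have e : k * (g * x * g⁻¹) * k⁻¹ = (k * g) * x * (k * g)⁻¹ := by group
        rw [e] at hky
        refine ⟨_, hD.2 x hx (k * g) hky, ?_⟩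
        simp only [map_mul, map_inv, hk, one_mul]
      · refine le_bot_iff.1 fun x hx => mem_bot.2 (hinjD hx D.one_mem ?_)
        rw [map_one]
        exact mem_bot.1 (e ▸ mem_map_of_mem f hx)
      · rw [← map_centerThompsonAOf f hinjD, normalizer_map_eq f hf hker
          (S.2.to_le ((zj_le D).trans hD.1))]
        exact hnpc_of_map h
    · rintro G _ _ S hr ⟨D, hD, -, h⟩
      exact closed_final hp S hr hD h
  exact sc.hasNormalPComplement S ⟨D, hD, hb, h⟩

end Cfsg.Agent.ClosedZJ
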